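import Cfsg.Agent.H793.Hyp
import Cfsg.Agent.H802.FusCentric
set_option linter.all false

-- part: H793/FixHom
section
/-!
# Maps of a saturated system that are the identity on a subgroup `A` (helper793)

`A` receptive in `F`, `A ≤ U ≤ N_S(A)`, `U` conjugate to a fully normalized centric `Q`, the group of automorphisms of
`U` in `F` trivial on `A` a `p`-group. If a system `E` over `S` contains all maps of `F` with source larger than `U`
then it contains all the maps of `F` with source `U` that are the identity on `A`.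
-/

set_option autoImplicit false

namespace Cfsg.Agent.H793

open Cfsg Cfsg.FusionSystem Cfsg.Agent.H802

variable {Ω : Type*} [Group Ω] {S : Subgroup Ω}

theorem card_centralizerIn_le_of_isCentric [Finite S] {F : FusionSystem S} {P Q : Subgroup Ω}
    (hP : F.IsCentric P) (h : F.IsConj P Q) :
    Nat.card (centralizerIn S P) ≤ Nat.card (centralizerIn S Q) := by
  have hCP : centralizerIn S P ≤ P := hP.2 P (isConj_refl F hP.1)
  obtain ⟨φ, hφ, hφQ⟩ := h
  have : Finite (centralizerIn S Q) := finite_of_le inf_le_left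
  exact card_le_of_maps (F.injective_of_mem hφ) hCP
    (fun x hx => apply_mem_centralizerIn hφ le_rfl hφQ (fun _ _ => rfl) ⟨x, hCP hx⟩ hx.2)

theorem isFullyCentralized_of_isCentric [Finite S] {F : FusionSystem S} {P : Subgroup Ω}
    (hP : F.IsCentric P) : F.IsFullyCentralized P :=
  ⟨hP.1, fun _ hQ => card_centralizerIn_le_of_isCentric (isCentric_of_isConj hP hQ) (isConj_symm hQ)⟩

/-- `κ` is a map of `F` from `V` onto `W` which is the identity on `V ∩ A`. -/
def FixHom (F : FusionSystem S) (A V W : Subgroup Ω) (κ : V →* Ω) : Prop :=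
  κ ∈ F.Hom V ∧ κ.range = W ∧ ∀ (x : Ω) (hx : x ∈ V), x ∈ A → κ ⟨x, hx⟩ = x

theorem FixHom.le_range {F : FusionSystem S} {A V W : Subgroup Ω} {κ : V →* Ω} (hAV : A ≤ V)
    (h : FixHom F A V W κ) : A ≤ W := by
  intro a ha
  rw [← h.2.1]
  exact ⟨⟨a, hAV ha⟩, h.2.2 a (hAV ha) ha⟩

theorem FixHom.refl {F : FusionSystem S} {A V : Subgroup Ω} (hV : V ≤ S) :
    FixHom F A V V V.subtype :=
  ⟨subtype_mem F hV, Subgroup.range_subtype V, fun _ _ _ => rfl⟩

theorem FixHom.symm {F : FusionSystem S} {A V W : Subgroup Ω} {κ : V →* Ω} (hAV : A ≤ V)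
    (h : FixHom F A V W κ) : ∃ κ' : W →* Ω, FixHom F A W V κ' ∧
      (∀ (x : V) (hx : κ x ∈ W), κ' ⟨κ x, hx⟩ = x) ∧ (∀ (y : W) (hy : κ' y ∈ V), κ ⟨κ' y, hy⟩ = y) := by
  obtain ⟨κ', hκ', hr, h1, h2⟩ := exists_inv h.1 h.2.1
  refine ⟨κ', ⟨hκ', hr, fun x hx hxA => ?_⟩, h1, h2⟩
  have h3 := h.2.2 x (hAV hxA) hxA
  have h4 := h1 ⟨x, hAV hxA⟩ (by rw [h3]; exact hx)
  have h5 : (⟨κ ⟨x, hAV hxA⟩, by rw [h3]; exact hx⟩ : W) = ⟨x, hx⟩ := Subtype.ext h3
  rw [h5] at h4
  exact h4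

theorem FixHom.trans {F : FusionSystem S} {A U V W : Subgroup Ω} {κ : U →* Ω} {μ : V →* Ω}
    (h : FixHom F A U V κ) (h' : FixHom F A V W μ) :
    ∃ ν : U →* Ω, FixHom F A U W ν ∧ ∀ (x : U) (hx : κ x ∈ V), ν x = μ ⟨κ x, hx⟩ := by
  have hm : ∀ x : U, κ x ∈ V := fun x => by rw [← h.2.1]; exact ⟨x, rfl⟩
  obtain ⟨ν, hν, hνe⟩ := exists_comp h.1 h'.1 hm
  refine ⟨ν, ⟨hν, ?_, fun x hx hxA => ?_⟩, fun x hx => hνe x⟩
  · ext z
    constructor
    · rintro ⟨x, rfl⟩
      rw [hνe x, ← h'.2.1]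
      exact ⟨_, rfl⟩
    · intro hz
      rw [← h'.2.1] at hz
      obtain ⟨⟨y, hy⟩, rfl⟩ := hz
      have hy' := hy
      rw [← h.2.1] at hy'
      obtain ⟨x, rfl⟩ := hy'
      exact ⟨x, hνe x⟩
  · rw [hνe]
    have h3 : (⟨κ ⟨x, hx⟩, hm ⟨x, hx⟩⟩ : V) = ⟨x, by rw [← h.2.2 x hx hxA]; exact hm _⟩ :=
      Subtype.ext (h.2.2 x hx hxA)
    rw [h3]
    exact h'.2.2 _ _ hxA

theorem FixHom.le_normalizer {F : FusionSystem S} {A V W : Subgroup Ω} {κ : V →* Ω} (hAV : A ≤ V)
    (hVN : V ≤ Subgroup.normalizer (A : Set Ω)) (h : FixHom F A V W κ) :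
    W ≤ Subgroup.normalizer (A : Set Ω) := by
  intro w hw
  rw [← h.2.1] at hw
  obtain ⟨x, rfl⟩ := hw
  exact (apply_mem_normalizerIn (φ := A.subtype) h.1 hAV hVN (Subgroup.range_subtype A)
    (fun x hx => h.2.2 x (hAV hx) hx) x).2

/-- Conjugation by `κ x` on `A` is conjugation by `x`. -/
theorem FixHom.mem_centralizer {F : FusionSystem S} {A V W : Subgroup Ω} {κ : V →* Ω} (hAV : A ≤ V)
    (hVN : V ≤ Subgroup.normalizer (A : Set Ω)) (h : FixHom F A V W κ) (x : V) :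
    (x : Ω)⁻¹ * κ x ∈ centralizerIn S A := by
  have hVS : V ≤ S := hom_le h.1
  refine ⟨S.mul_mem (S.inv_mem (hVS x.2)) (hom_apply_mem h.1 x), ?_⟩
  refine Subgroup.mem_centralizer_iff.2 fun a ha => ?_
  have h1 : (x : Ω) * a * (x : Ω)⁻¹ ∈ A := (Subgroup.mem_normalizer_iff.1 (hVN x.2) a).1 ha
  have h2 := h.2.2 _ (hAV h1) h1
  have h3 : (⟨(x : Ω) * a * (x : Ω)⁻¹, hAV h1⟩ : V) = x * ⟨a, hAV ha⟩ * x⁻¹ := rfl
  rw [h3, map_mul, map_mul, map_inv, h.2.2 a (hAV ha) ha] at h2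
  -- `κ x * a * (κ x)⁻¹ = x * a * x⁻¹`
  calc a * ((x : Ω)⁻¹ * κ x) = (x : Ω)⁻¹ * ((x : Ω) * a * (x : Ω)⁻¹) * κ x := by group
    _ = (x : Ω)⁻¹ * (κ x * a * (κ x)⁻¹) * κ x := by rw [h2]
    _ = (x : Ω)⁻¹ * κ x * a := by group

/-- First claim: maps onto a subgroup `W` all of whose automorphisms trivial on `A` are induced by `C_S(A)`. -/
theorem fix_mem_of_le {p : ℕ} [Fact p.Prime] [Finite S] (hS : IsPGroup p S) {F E : FusionSystem S}
    (hF : F.IsSaturated p) {A V W : Subgroup Ω} (hAV : A ≤ V)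
    (hVN : V ≤ Subgroup.normalizer (A : Set Ω)) (hWc : F.IsCentric W)
    (hbig : ∀ R : Subgroup Ω, Nat.card W < Nat.card R → F.Hom R ⊆ E.Hom R)
    (hJ : ∀ b ∈ F.autGroup W, (∀ x : W, (x : Ω) ∈ A → b x = x) →
      b ∈ autInducedBy (centralizerIn S A) W) {κ : V →* Ω} (hκ : FixHom F A V W κ) :
    κ ∈ E.Hom V := by
  have hVS : V ≤ S := hom_le hκ.1
  have hfV : Finite V := finite_of_le hVS
  have hcard : Nat.card V = Nat.card W := isConj_card_eq ⟨κ, hκ.1, hκ.2.1⟩
  have hrec : F.IsReceptive W :=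
    isReceptive_of_isFullyCentralized hS hF (isFullyCentralized_of_isCentric hWc)
  obtain ⟨κ', hκ', hκe⟩ := hrec.2 V κ hκ.1 hκ.2.1
  have hVext : V ≤ extender S V κ := le_extender hVS (hom_apply_mem hκ.1)
  have hN : ∀ c ∈ centralizerIn S A, c ∈ Subgroup.normalizer (V : Set Ω) → c ∈ extender S V κ := by
    intro c hc hcN
    rw [mem_extender_iff]
    refine ⟨hc.1, hcN, ?_⟩
    obtain ⟨α, hα⟩ := exists_conjAut hcN
    have hαF : α ∈ F.autGroup V :=
      autInducedBy_le_autGroup F hVS ((mem_autInducedBy_iff S V α).2 ⟨c, hc.1, hα⟩)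
    have hb := hJ _ (autHom hκ.1 hκ.2.1 ⟨α, hαF⟩).2 ?_
    · obtain ⟨d, hd, hde⟩ := (mem_autInducedBy_iff _ _ _).1 hb
      refine ⟨d, hd.1, fun x hx => ?_⟩
      have hκx : κ x ∈ W := by rw [← hκ.2.1]; exact ⟨x, rfl⟩
      have h1 := hde ⟨κ x, hκx⟩
      rw [autHom_apply hκ.1 hκ.2.1 ⟨α, hαF⟩ x hκx] at h1
      rw [← h1]
      congr 1
      exact Subtype.ext (hα x).symm
    · intro x hxA
      apply Subtype.ext
      have h2 := hκ.2.2 x (hAV hxA) hxA
      have h3 : x = ⟨κ ⟨x, hAV hxA⟩, by rw [h2]; exact x.2⟩ := Subtype.ext h2.symm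
      have h4 := autHom_apply hκ.1 hκ.2.1 ⟨α, hαF⟩ ⟨x, hAV hxA⟩ (by rw [h2]; exact x.2)
      rw [← h3] at h4
      rw [h4]
      have h5 : α ⟨(x : Ω), hAV hxA⟩ = ⟨(x : Ω), hAV hxA⟩ := by
        apply Subtype.ext
        rw [hα]
        have := Subgroup.mem_centralizer_iff.1 hc.2 x hxA
        show c * (x : Ω) * c⁻¹ = x
        rw [← this]; group
      show κ (α ⟨(x : Ω), hAV hxA⟩) = x
      rw [h5, h2]
  by_cases hcase : ∃ c ∈ centralizerIn S A, c ∈ Subgroup.normalizer (V : Set Ω) ∧ c ∉ V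
  · -- the extension is defined on a larger subgroup
    obtain ⟨c, hc, hcN, hcV⟩ := hcase
    have hfe : Finite (extender S V κ) := finite_of_le (extender_le S V κ)
    have hlt : Nat.card V < Nat.card (extender S V κ) := by
      refine lt_of_le_of_ne (Subgroup.card_le_of_le hVext) fun heq => ?_
      have h1 := Subgroup.eq_of_le_of_card_ge hVext heq.ge
      apply hcV
      rw [h1]
      exact hN c hc hcN
    rw [hcard] at hlt
    have h1 := hbig _ hlt hκ'
    exact mem_of_agree h1 hVext (fun x hx => (hκe x hx (hVext hx)).symm)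
  · push Not at hcase
    -- `C_S(A) ≤ V`
    have hC : centralizerIn S A ≤ V := by
      by_contra hCV
      have hVC : V ≤ Subgroup.normalizer ((centralizerIn S A : Subgroup Ω) : Set Ω) := by
        rw [Subgroup.le_normalizer_iff]
        intro v hv c hc
        refine ⟨S.mul_mem (S.mul_mem (hVS hv) hc.1) (S.inv_mem (hVS hv)), ?_⟩
        refine Subgroup.mem_centralizer_iff.2 fun a ha => ?_
        have h1 : v⁻¹ * a * v ∈ A := by
          have := (Subgroup.mem_normalizer_iff.1 (Subgroup.inv_mem _ (hVN hv)) a).1 ha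
          simpa using this
        have h2 := Subgroup.mem_centralizer_iff.1 hc.2 _ h1
        calc a * (v * c * v⁻¹) = v * (v⁻¹ * a * v * c) * v⁻¹ := by group
          _ = v * (c * (v⁻¹ * a * v)) * v⁻¹ := by rw [h2]
          _ = v * c * v⁻¹ * a := by group
      have hne : V ≠ V ⊔ centralizerIn S A := by
        intro h
        apply hCV
        rw [h]
        exact le_sup_right
      have hlt := lt_inf_normalizer hS (le_sup_left : V ≤ V ⊔ centralizerIn S A)
        (sup_le hVS inf_le_left) hne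
      obtain ⟨m, hm, hmV⟩ := SetLike.exists_of_lt hlt
      obtain ⟨v, hv, c, hc, rfl⟩ := (Cfsg.Agent.H759.mem_sup_of_normalizes hVC).1 hm.1
      have hcN : c ∈ Subgroup.normalizer (V : Set Ω) := by
        have h1 : v⁻¹ * (v * c) ∈ Subgroup.normalizer (V : Set Ω) :=
          Subgroup.mul_mem _ (Subgroup.inv_mem _ (Subgroup.le_normalizer hv)) hm.2
        rwa [inv_mul_cancel_left] at h1
      exact hmV (V.mul_mem hv (hcase c hc hcN))
    -- `κ` maps `V` into `V`
    have hmaps : ∀ x : V, κ x ∈ V := by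
      intro x
      have h1 := hC (hκ.mem_centralizer hAV hVN x)
      have h2 := V.mul_mem x.2 h1
      rwa [mul_inv_cancel_left] at h2
    have hVW : V = W := by
      rw [← hκ.2.1]
      exact (range_eq_of_mapsTo hκ.1 hmaps).symm
    subst hVW
    obtain ⟨b, hb, hbe⟩ := exists_aut hκ.1 hκ.2.1
    have h1 := hJ b hb (fun x hx => Subtype.ext ((hbe x).trans (hκ.2.2 x x.2 hx)))
    obtain ⟨d, hd, hde⟩ := (mem_autInducedBy_iff _ _ _).1 h1
    exact mem_of_apply_eq (E.conj_mem hVS hd.1) (fun x => ((hbe x).symm.trans (hde x)))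

end Cfsg.Agent.H793
end

-- part: H793/FixMax
section
/-!
# Maps of a saturated system that are the identity on a subgroup `A`, second part (helper793)
-/

set_option autoImplicit false

namespace Cfsg.Agent.H793

open Cfsg Cfsg.FusionSystem Cfsg.Agent.H802

variable {Ω : Type*} [Group Ω] {S : Subgroup Ω}

/-- A subgroup without nontrivial `p'`-elements is a `p`-group. -/
theorem isPGroup_of_coprime_eq_one {G : Type*} [Group G] [Finite G] {p : ℕ} [hp : Fact p.Prime]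
    (h : ∀ g : G, (orderOf g).Coprime p → g = 1) : IsPGroup p G := by
  rw [IsPGroup.iff_card]
  by_contra hcon
  have hpos : Nat.card G ≠ 0 := Nat.card_pos.ne'
  obtain ⟨q, hq, hqd, hqp⟩ : ∃ q : ℕ, q.Prime ∧ q ∣ Nat.card G ∧ q ≠ p := by
    by_contra hno
    push Not at hno
    apply hcon
    exact ⟨_, Nat.eq_prime_pow_of_unique_prime_dvd hpos (fun {d} hd hdd => hno d hd hdd)⟩
  have : Fact q.Prime := ⟨hq⟩
  obtain ⟨b, hb⟩ := exists_prime_orderOf_dvd_card' q hqd
  have hb1 : b = 1 := h b (by rw [hb]; exact (Nat.coprime_primes hq hp.out).2 hqp)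
  rw [hb1, orderOf_one] at hb
  exact hq.one_lt.ne hb

/-- If `V` maximizes `|N_{C_S(A)}(V)|` among its images under maps that are the identity on `A`, then every
automorphism of `V` in `F` trivial on `A` is induced by `C_S(A)`. -/
theorem mem_autInducedBy_of_max {p : ℕ} [Fact p.Prime] [Finite S] (hS : IsPGroup p S)
    {F : FusionSystem S} (hF : F.IsSaturated p) {A Q V : Subgroup Ω} (hAr : F.IsReceptive A)
    (hAV : A ≤ V) (hVN : V ≤ Subgroup.normalizer (A : Set Ω))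
    (hQn : F.IsFullyNormalized Q) (hQc : F.IsCentric Q) (hVQ : F.IsConj V Q)
    (hp' : ∀ b ∈ F.autGroup V, (orderOf b).Coprime p → (∀ x : V, (x : Ω) ∈ A → b x = x) → b = 1)
    (hmax : ∀ (V' : Subgroup Ω) (κ : V →* Ω), FixHom F A V V' κ →
      Nat.card (normalizerIn (centralizerIn S A) V') ≤
        Nat.card (normalizerIn (centralizerIn S A) V)) :
    ∀ b ∈ F.autGroup V, (∀ x : V, (x : Ω) ∈ A → b x = x) →
      b ∈ autInducedBy (centralizerIn S A) V := by
  obtain ⟨φ, hφ, hφQ⟩ := hVQ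
  have hVS : V ≤ S := hom_le hφ
  have hfV : Finite V := finite_of_le hVS
  have hfS : Finite S := inferInstance
  have hQS : Q ≤ S := hQn.1
  have hfQ : Finite Q := finite_of_le hQS
  have hQa : F.IsFullyAutomized p Q := isFullyAutomized_of_isFullyNormalized hS hF hQn
  -- the group `J` of automorphisms trivial on `A`
  let J : Subgroup (MulAut V) :=
    { carrier := {b | b ∈ F.autGroup V ∧ ∀ x : V, (x : Ω) ∈ A → b x = x}
      one_mem' := ⟨Subgroup.one_mem _, fun x _ => rfl⟩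
      mul_mem' := by
        rintro a b ⟨ha, ha'⟩ ⟨hb, hb'⟩
        refine ⟨Subgroup.mul_mem _ ha hb, fun x hx => ?_⟩
        rw [MulAut.mul_apply, hb' x hx, ha' x hx]
      inv_mem' := by
        rintro a ⟨ha, ha'⟩
        refine ⟨Subgroup.inv_mem _ ha, fun x hx => ?_⟩
        have := congrArg (a⁻¹ : MulAut V) (ha' x hx)
        rw [MulAut.inv_apply_self] at this
        exact this.symm }
  have hJle : J ≤ F.autGroup V := fun b hb => hb.1
  have hJp : IsPGroup p J := by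
    refine isPGroup_of_coprime_eq_one fun g hg => ?_
    rw [← Subgroup.orderOf_coe] at hg
    exact Subtype.ext (hp' g g.2.1 hg g.2.2)
  obtain ⟨β, hβ, hβe⟩ := exists_aut_conj_le_of_isPGroup hφ hφQ hQa J hJle hJp
  have hφm : ∀ x : V, φ x ∈ Q := fun x => by rw [← hφQ]; exact ⟨x, rfl⟩
  obtain ⟨f, hf, hfe⟩ := exists_comp hφ ((mem_autGroup_iff F hQS β).1 hβ) hφm
  have hfx : ∀ x : V, f x = ((β ⟨φ x, hφm x⟩ : Q) : Ω) := fun x => hfe x
  have hfm : ∀ x : V, f x ∈ Q := fun x => by rw [hfx]; exact Subtype.property _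
  have hfr : f.range = Q := by
    refine Subgroup.eq_of_le_of_card_ge (by rintro _ ⟨x, rfl⟩; exact hfm x) ?_
    rw [← isConj_card_eq ⟨f, hf, rfl⟩, isConj_card_eq ⟨φ, hφ, hφQ⟩]
  have hfs : ∀ α ∈ J, ∃ s ∈ S, ∀ x : V, f (α x) = s * f x * s⁻¹ := by
    intro α hα
    obtain ⟨s, hs, hse⟩ := (mem_autInducedBy_iff S Q _).1 (hβe α hα)
    refine ⟨s, hs, fun x => ?_⟩
    have h1 := hse ⟨f x, hfm x⟩
    rw [← h1, MulAut.mul_apply, MulAut.mul_apply]
    have h2 : β⁻¹ ⟨f x, hfm x⟩ = ⟨φ x, hφm x⟩ := by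
      have : (⟨f x, hfm x⟩ : Q) = β ⟨φ x, hφm x⟩ := Subtype.ext (hfx x)
      rw [this, MulAut.inv_apply_self]
    rw [h2, hfx]
    congr 2
    apply Subtype.ext
    show φ (α x) = φ (α ((isoOf φ (F.injective_of_mem hφ) hφQ).symm ⟨φ x, hφm x⟩))
    have h3 : (isoOf φ (F.injective_of_mem hφ) hφQ).symm ⟨φ x, hφm x⟩ = x :=
      (isoOf φ (F.injective_of_mem hφ) hφQ).symm_apply_apply x
    rw [h3]
  -- the image of `A`
  have hfA : f.comp (Subgroup.inclusion hAV) ∈ F.Hom A := restrict_mem hf hAV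
  set fA := f.comp (Subgroup.inclusion hAV) with hfAdef
  set A' := fA.range with hA'
  have hA'Q : A' ≤ Q := by
    rintro _ ⟨x, rfl⟩
    exact hfm _
  obtain ⟨g, hg, hgr, hg1, hg2⟩ := exists_inv hfA hA'.symm
  obtain ⟨h, hh, hhe⟩ := hAr.2 A' g hg hgr
  obtain ⟨fi, hfi, hfir, hfi1, hfi2⟩ := exists_inv hf hfr
  have hQN : Q ≤ Subgroup.normalizer (A' : Set Ω) := by
    intro y hy
    rw [← hfr] at hy
    obtain ⟨x, rfl⟩ := hy
    exact (apply_mem_normalizerIn hf hAV hVN hA'.symm (fun x hx => rfl) x).2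
  have hQE : Q ≤ extender S A' g := by
    refine le_extender_of_extends hA'Q hQS hQN (hom_apply_mem hfi) fun x hx => ?_
    obtain ⟨a, rfl⟩ := id hx
    have h1 := hfi1 (Subgroup.inclusion hAV a) (hA'Q hx)
    have h2 := hg1 a hx
    exact h1.trans h2.symm
  have hCE : centralizerIn S A' ≤ extender S A' g := centralizerIn_le_extender S A' g
  -- the image of `Q` under the extension
  have hhQ : h.comp (Subgroup.inclusion hQE) ∈ F.Hom Q := restrict_mem hh hQE
  set hq := h.comp (Subgroup.inclusion hQE) with hqdef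
  obtain ⟨κ, hκ, hκe⟩ := exists_comp hf hhQ hfm
  have hκfix : FixHom F A V κ.range κ := by
    refine ⟨hκ, rfl, fun x hx hxA => ?_⟩
    rw [hκe]
    have h1 : f ⟨x, hx⟩ ∈ A' := ⟨⟨x, hxA⟩, rfl⟩
    have h2 := hhe (f ⟨x, hx⟩) h1 (hQE (hfm _))
    have h3 := hg1 ⟨x, hxA⟩ h1
    exact h2.trans h3
  have hκr : κ.range = hq.range := by
    ext z
    constructor
    · rintro ⟨x, rfl⟩
      exact ⟨⟨f x, hfm x⟩, (hκe x).symm⟩
    · rintro ⟨⟨y, hy⟩, rfl⟩
      have hy' := hy
      rw [← hfr] at hy'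
      obtain ⟨x, rfl⟩ := hy'
      exact ⟨x, hκe x⟩
  have hm1 := hmax κ.range κ hκfix
  -- the extension carries `N_{C_S(A')}(Q)` into `N_{C_S(A)}(κ(V))`
  have hm2 : Nat.card (normalizerIn (centralizerIn S A') Q) ≤
      Nat.card (normalizerIn (centralizerIn S A) κ.range) := by
    have hfin : Finite (normalizerIn (centralizerIn S A) κ.range) :=
      finite_of_le (inf_le_left.trans inf_le_left)
    have hle : normalizerIn (centralizerIn S A') Q ≤ extender S A' g := inf_le_left.trans hCE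
    refine card_le_of_maps (F.injective_of_mem hh) hle fun x hx => ⟨?_, ?_⟩
    · exact apply_mem_centralizerIn hh (hA'Q.trans hQE) hgr (fun x hx => hhe x hx _) ⟨x, hle hx⟩
        hx.1.2
    · have hR : (extender S A' g ⊓ Subgroup.normalizer (Q : Set Ω) : Subgroup Ω) ≤
          extender S A' g := inf_le_left
      have hQR : Q ≤ extender S A' g ⊓ Subgroup.normalizer (Q : Set Ω) :=
        le_inf hQE Subgroup.le_normalizer
      have h1 := apply_mem_normalizerIn (φ := hq) (restrict_mem hh hR) hQR inf_le_right hκr.symm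
        (fun x hx => rfl) ⟨x, hle hx, hx.2⟩
      exact h1.2
  have hm3 : Nat.card (normalizerIn (centralizerIn S A') Q) ≤
      Nat.card (normalizerIn (centralizerIn S A) V) := hm2.trans hm1
  rw [← card_autInducedBy_mul, ← card_autInducedBy_mul] at hm3
  have hc1 : centralizerIn (centralizerIn S A') Q = centralizerIn S Q := by
    ext x
    constructor
    · rintro ⟨⟨h1, -⟩, h2⟩
      exact ⟨h1, h2⟩
    · rintro ⟨h1, h2⟩
      exact ⟨⟨h1, Subgroup.centralizer_le hA'Q h2⟩, h2⟩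
  have hc2 : centralizerIn (centralizerIn S A) V = centralizerIn S V := by
    ext x
    constructor
    · rintro ⟨⟨h1, -⟩, h2⟩
      exact ⟨h1, h2⟩
    · rintro ⟨h1, h2⟩
      exact ⟨⟨h1, Subgroup.centralizer_le hAV h2⟩, h2⟩
  have hc3 : Nat.card (centralizerIn S V) ≤ Nat.card (centralizerIn S Q) :=
    card_centralizerIn_le_of_isCentric (isCentric_of_isConj hQc ⟨fi, hfi, hfir⟩) ⟨f, hf, hfr⟩
  rw [hc1, hc2] at hm3
  have hm4 : Nat.card (autInducedBy (centralizerIn S A') Q) ≤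
      Nat.card (autInducedBy (centralizerIn S A) V) := by
    have hfC : Finite (centralizerIn S Q) := finite_of_le inf_le_left
    have hpos : 0 < Nat.card (centralizerIn S Q) := Nat.card_pos
    have h1 : Nat.card (autInducedBy (centralizerIn S A') Q) * Nat.card (centralizerIn S Q) ≤
        Nat.card (autInducedBy (centralizerIn S A) V) * Nat.card (centralizerIn S Q) :=
      hm3.trans (Nat.mul_le_mul_left _ hc3)
    exact Nat.le_of_mul_le_mul_right h1 hpos
  -- `|J| ≤ |Aut_{C_S(A')}(Q)|`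
  have hm5 : Nat.card J ≤ Nat.card (autInducedBy (centralizerIn S A') Q) := by
    refine Nat.card_le_card_of_injective (fun α : J =>
      (⟨MulAut.congr (isoOf f (F.injective_of_mem hf) hfr) (α : MulAut V), ?_⟩ :
        autInducedBy (centralizerIn S A') Q)) ?_
    · obtain ⟨s, hs, hse⟩ := hfs α α.2
      refine (mem_autInducedBy_iff _ _ _).2 ⟨s, ⟨hs, ?_⟩, ?_⟩
      · refine Subgroup.mem_centralizer_iff.2 ?_
        rintro _ ⟨a, rfl⟩
        have h1 := hse ⟨a, hAV a.2⟩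
        rw [α.2.2 ⟨a, hAV a.2⟩ a.2] at h1
        have h2 : fA a = f ⟨a, hAV a.2⟩ := rfl
        rw [h2]
        calc f ⟨a, hAV a.2⟩ * s = s * f ⟨a, hAV a.2⟩ * s⁻¹ * s := by rw [← h1]
          _ = s * f ⟨a, hAV a.2⟩ := by group
      · intro y
        have h1 := hse ((isoOf f (F.injective_of_mem hf) hfr).symm y)
        have h2 : f ((isoOf f (F.injective_of_mem hf) hfr).symm y) = y :=
          Cfsg.Agent.H802.isoOf_symm_apply f _ hfr y
        rw [h2] at h1
        exact h1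
    · intro α β hαβ
      have h1 := congrArg Subtype.val hαβ
      exact Subtype.ext ((MulAut.congr (isoOf f (F.injective_of_mem hf) hfr)).injective h1)
  -- conclusion
  have hle : autInducedBy (centralizerIn S A) V ≤ J := by
    intro α hα
    obtain ⟨c, hc, hce⟩ := (mem_autInducedBy_iff _ _ _).1 hα
    refine ⟨autInducedBy_le_autGroup F hVS ((mem_autInducedBy_iff S V α).2 ⟨c, hc.1, hce⟩),
      fun x hx => Subtype.ext ?_⟩
    rw [hce]
    have := Subgroup.mem_centralizer_iff.1 hc.2 x hx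
    calc c * (x : Ω) * c⁻¹ = (x : Ω) * c * c⁻¹ := by rw [← this]
      _ = x := by group
  have hEq : autInducedBy (centralizerIn S A) V = J :=
    Subgroup.eq_of_le_of_card_ge hle (hm5.trans hm4)
  intro b hb hbA
  rw [hEq]
  exact ⟨hb, hbA⟩

theorem finite_subgroups_le [Finite S] : {V : Subgroup Ω | V ≤ S}.Finite := by
  refine (Set.finite_range (fun H : Subgroup S => H.map S.subtype)).subset ?_
  intro V hV
  exact ⟨V.subgroupOf S, by simpa using hV⟩

/-- **Maps that are the identity on `A`.** -/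
theorem fix_mem {p : ℕ} [Fact p.Prime] [Finite S] (hS : IsPGroup p S)
    {F E : FusionSystem S} (hF : F.IsSaturated p) {A Q U : Subgroup Ω} (hAr : F.IsReceptive A)
    (hAU : A ≤ U) (hUN : U ≤ Subgroup.normalizer (A : Set Ω))
    (hQn : F.IsFullyNormalized Q) (hQc : F.IsCentric Q) (hUQ : F.IsConj U Q)
    (hp' : ∀ b ∈ F.autGroup U, (orderOf b).Coprime p → (∀ x : U, (x : Ω) ∈ A → b x = x) → b = 1)
    (hbig : ∀ R : Subgroup Ω, Nat.card U < Nat.card R → F.Hom R ⊆ E.Hom R)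
    {W : Subgroup Ω} {κ : U →* Ω} (hκ : FixHom F A U W κ) : κ ∈ E.Hom U := by
  have hUS : U ≤ S := hom_le hκ.1
  -- choose the maximal member of the class
  obtain ⟨V, ⟨μ, hμ⟩, hVmax⟩ := Set.exists_max_image {V : Subgroup Ω | ∃ μ, FixHom F A U V μ}
    (fun V => Nat.card (normalizerIn (centralizerIn S A) V))
    (finite_subgroups_le.subset (fun V ⟨μ, hμ⟩ => by
      rw [← hμ.2.1]; exact range_le_of_mem hμ.1)) ⟨U, U.subtype, FixHom.refl hUS⟩
  have hVN : V ≤ Subgroup.normalizer (A : Set Ω) := hμ.le_normalizer hAU hUN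
  have hAV : A ≤ V := hμ.le_range hAU
  obtain ⟨ν, hν, hν1, hν2⟩ := hμ.symm hAU
  have hVS : V ≤ S := hom_le hν.1
  have hVU : F.IsConj V U := ⟨ν, hν.1, hν.2.1⟩
  have hcard : Nat.card V = Nat.card U := isConj_card_eq hVU
  have hVQ : F.IsConj V Q := isConj_trans hVU hUQ
  have hVc : F.IsCentric V := isCentric_of_isConj hQc (isConj_symm hVQ)
  -- `p'`-automorphisms of `V`
  have hpV : ∀ b ∈ F.autGroup V, (orderOf b).Coprime p → (∀ x : V, (x : Ω) ∈ A → b x = x) →
      b = 1 := by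
    intro b hb ho hbA
    have h1 := congr_mem_autGroup hν.1 hν.2.1 hb
    have h2 : MulAut.congr (isoOf ν (F.injective_of_mem hν.1) hν.2.1) b = 1 := by
      refine hp' _ h1 ?_ ?_
      · have h0 := orderOf_injective
          (MulAut.congr (isoOf ν (F.injective_of_mem hν.1) hν.2.1)).toMonoidHom
          (MulAut.congr (isoOf ν (F.injective_of_mem hν.1) hν.2.1)).injective b
        rw [← h0] at ho
        exact ho
      · intro x hx
        apply Subtype.ext
        have hxV : ν ⟨(x : Ω), hAV hx⟩ = x := hν.2.2 x (hAV hx) hx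
        have h3 := autHom_apply hν.1 hν.2.1 ⟨b, hb⟩ ⟨(x : Ω), hAV hx⟩ (by rw [hxV]; exact x.2)
        have h4 : (⟨ν ⟨(x : Ω), hAV hx⟩, by rw [hxV]; exact x.2⟩ : U) = x := Subtype.ext hxV
        rw [h4] at h3
        refine h3.trans ?_
        show ν (b ⟨(x : Ω), hAV hx⟩) = x
        rw [hbA _ hx, hxV]
    have h5 := congrArg (MulAut.congr (isoOf ν (F.injective_of_mem hν.1) hν.2.1)).symm h2
    rw [MulEquiv.symm_apply_apply, map_one] at h5
    exact h5
  have hJ := mem_autInducedBy_of_max hS hF hAr hAV hVN hQn hQc hVQ hpV (fun V' κ' hκ' => by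
    obtain ⟨χ, hχ, -⟩ := hμ.trans hκ'
    exact hVmax V' ⟨χ, hχ⟩)
  have hbig' : ∀ R : Subgroup Ω, Nat.card V < Nat.card R → F.Hom R ⊆ E.Hom R := fun R hR =>
    hbig R (by rwa [← hcard])
  have hμE : μ ∈ E.Hom U := fix_mem_of_le hS hF hAU hUN hVc hbig' hJ hμ
  -- `W → V`
  obtain ⟨κ', hκ', hκ1, hκ2⟩ := hκ.symm hAU
  obtain ⟨χ, hχ, hχe⟩ := hκ'.trans hμ
  have hχE : χ ∈ E.Hom W := fix_mem_of_le hS hF (hκ.le_range hAU) (hκ.le_normalizer hAU hUN) hVc
    hbig' hJ hχ
  obtain ⟨χ', hχ'E, hχ'r, hχ'1, hχ'2⟩ := exists_inv hχE hχ.2.1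
  have hμm : ∀ x : U, μ x ∈ V := fun x => by rw [← hμ.2.1]; exact ⟨x, rfl⟩
  have hκm : ∀ x : U, κ x ∈ W := fun x => by rw [← hκ.2.1]; exact ⟨x, rfl⟩
  obtain ⟨ρ, hρ, hρe⟩ := exists_comp hμE hχ'E hμm
  refine mem_of_apply_eq hρ fun x => ?_
  rw [hρe]
  have h1 : κ' ⟨κ x, hκm x⟩ = x := hκ1 x _
  have h2 := hχe ⟨κ x, hκm x⟩ (by rw [h1]; exact x.2)
  have h3 : (⟨κ' ⟨κ x, hκm x⟩, by rw [h1]; exact x.2⟩ : U) = x := Subtype.ext h1
  rw [h3] at h2
  have h4 := hχ'1 ⟨κ x, hκm x⟩ (by rw [h2]; exact hμm x)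
  have h5 : (⟨χ ⟨κ x, hκm x⟩, by rw [h2]; exact hμm x⟩ : V) = ⟨μ x, hμm x⟩ := Subtype.ext h2
  rw [h5] at h4
  exact h4.symm

end Cfsg.Agent.H793
end
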