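import Cfsg.Agent.H793.ZCenter
import Cfsg.Agent.H28.WeakLocal
import Cfsg.Agent.H792.CenterSplit
set_option linter.all false

/-!
# The centre of a saturated fusion system at an odd prime

`mem_center_iff_odd` : `Z(F)` consists of the elements of `Z(S)` fixed by `Aut_F(J(S))`.
`center_splits_of_thompson` : if that description of the centre holds then `Z(F)` is a direct factor of `Z(S)`.
-/

set_option autoImplicit false

namespace Cfsg.Agent.H793

open Cfsg Cfsg.FusionSystem Cfsg.Agent.H752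

universe u

variable {Ω : Type u} [Group Ω] {S : Subgroup Ω} {F : FusionSystem S}

theorem good_of_mem_center [Finite S] {x : Ω} (hx : x ∈ F.center) :
    Good F x (thompsonSubgroupAOf S) := by
  rintro f ⟨φ, hφ, h1⟩ - hxJ
  have hle : F.center ≤ thompsonSubgroupAOf S := fun y hy =>
    mem_thompson_of_center (H792.center_le_center F hy)
  rw [← h1 x hxJ]
  exact H792.apply_center hφ hx hxJ hle

/-- For odd `p` the centre of a saturated system consists of the elements of `Z(S)` fixed by `Aut_F(J(S))`. -/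
theorem mem_center_iff_odd {p : ℕ} [Fact p.Prime] (hp : p ≠ 2) [Finite S] (hS : IsPGroup p S)
    (hF : F.IsSaturated p) (x : Ω) :
    x ∈ F.center ↔ x ∈ S ⊓ Subgroup.centralizer (S : Set Ω) ∧ Good F x (thompsonSubgroupAOf S) := by
  constructor
  · intro hx
    exact ⟨H792.center_le_center F hx, good_of_mem_center hx⟩
  · rintro ⟨hx, hJ⟩
    refine mem_center_of_local hS hF hx hJ ?_
    intro Q hQn hQc hxQ E hE L _ _ ι hm hQL hxN hJL
    obtain ⟨T, hT⟩ := hm.2.2.1
    refine Cfsg.Agent.H28.WeakLocal.local_central (p := p) hp _ L T (ι ⟨x, hxN⟩) le_rfl ?_ ?_ ?_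
    · rw [hT]; exact ⟨_, rfl⟩
    · rw [hT]; exact hJL
    · intro g
      rw [hT]
      have h1 : ι ⟨x, hxN⟩ ∈ (Q.subgroupOf (normalizerIn S Q)).map ι := ⟨_, hxQ, rfl⟩
      obtain ⟨y, -, hy⟩ := hQL.conj_mem _ h1 g
      exact ⟨y, hy⟩

/-- If the centre consists of the elements of `Z(S)` fixed by `Aut_F(J(S))` then it is a direct factor of
`Z(S)`. -/
theorem center_splits_of_thompson {p : ℕ} [Fact p.Prime] [Finite S] (hS : IsPGroup p S)
    (hF : F.IsSaturated p)
    (hcenter : ∀ x : Ω, x ∈ S ⊓ Subgroup.centralizer (S : Set Ω) →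
      Good F x (thompsonSubgroupAOf S) → x ∈ F.center) :
    ∃ K : Subgroup Ω, K ≤ S ⊓ Subgroup.centralizer (S : Set Ω) ∧ F.center ⊓ K = ⊥ ∧
      F.center ⊔ K = S ⊓ Subgroup.centralizer (S : Set Ω) := by
  set Q : Subgroup Ω := thompsonSubgroupAOf S with hQdef
  have hQS : Q ≤ S := Cfsg.Agent.PLocal.ThompsonJA.thompsonSubgroupAOf_le S
  have hZ : S ⊓ Subgroup.centralizer (S : Set Ω) ≤ Q := fun x hx => mem_thompson_of_center hx
  have hSN : S ≤ Subgroup.normalizer (Q : Set Ω) :=
    Subgroup.le_normalizer.trans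
      (Cfsg.Agent.PLocal.ThompsonJA.normalizer_le_normalizer_thompsonSubgroupAOf S)
  have hfinQ : Finite Q := H802.finite_of_le hQS
  have hQn : F.IsFullyNormalized Q := by
    refine ⟨hQS, fun R hR => ?_⟩
    have h1 : normalizerIn S Q = S := inf_eq_left.2 hSN
    rw [h1]
    exact Subgroup.card_le_of_le inf_le_left
  have hQp : IsPGroup p Q := hS.to_le hQS
  have hfinA : Finite (MulAut Q) := inferInstance
  have hact : ∀ (a : MulAut Q) (v : Q), v ∈ Subgroup.center Q → a v ∈ Subgroup.center Q := by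
    intro a v hv
    have := (Subgroup.characteristic_iff_le_comap.1
      (inferInstance : (Subgroup.center Q).Characteristic)) a
    exact this hv
  let ρ : F.autGroup Q →* MulAut (Subgroup.center Q) :=
    { toFun := fun a =>
        { toFun := fun v => ⟨(a : MulAut Q) v, hact a v v.2⟩
          invFun := fun v => ⟨(a : MulAut Q)⁻¹ v, hact _ v v.2⟩
          left_inv := fun v => Subtype.ext (MulAut.inv_apply_self _ _ _)
          right_inv := fun v => Subtype.ext (MulAut.apply_inv_self _ _ _)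
          map_mul' := fun v w => Subtype.ext (map_mul (a : MulAut Q) (v : Q) w) }
      map_one' := rfl
      map_mul' := fun a b => rfl }
  obtain ⟨-, R, hR⟩ := H802.isFullyAutomized_of_isFullyNormalized hS hF hQn
  have hcop : Nat.Coprime (Nat.card (Subgroup.center Q)) (R : Subgroup (F.autGroup Q)).index := by
    have h1 : IsPGroup p (Subgroup.center Q) := hQp.to_subgroup _
    obtain ⟨n, hn⟩ := IsPGroup.iff_card.1 h1
    rw [hn]
    exact Nat.Coprime.pow_left _ ((Nat.Prime.coprime_iff_not_dvd Fact.out).2 R.not_dvd_index)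
  obtain ⟨K, hK1, hK2, hK3⟩ := H792.exists_compl_fixed'
    (fun a b => Subtype.ext ((Subgroup.mem_center_iff.1 b.2) a))
    ρ (R : Subgroup (F.autGroup Q)) hcop
  -- fixed points of `R`
  have hfixR : ∀ v : Subgroup.center Q, (∀ a ∈ (R : Subgroup (F.autGroup Q)), ρ a v = v) ↔
      (((v : Q) : Ω) ∈ S ⊓ Subgroup.centralizer (S : Set Ω)) := by
    intro v
    constructor
    · intro h
      refine ⟨hQS (v : Q).2, Subgroup.mem_centralizer_iff.2 ?_⟩
      intro s hs
      obtain ⟨α, hα⟩ := H802.exists_conjAut (hSN hs)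
      have hαS : α ∈ autInducedBy S Q := (H802.mem_autInducedBy_iff S Q α).2 ⟨s, hs, hα⟩
      have hαF : α ∈ F.autGroup Q := H802.autInducedBy_le_autGroup F hQS hαS
      have h1 := h ⟨α, hαF⟩ (by rw [hR]; exact hαS)
      have h2 : (α (v : Q) : Q) = (v : Q) := congrArg Subtype.val h1
      have h3 := hα (v : Q)
      rw [h2] at h3
      calc s * ((v : Q) : Ω) = s * ((v : Q) : Ω) * s⁻¹ * s := by group
        _ = _ := by rw [← h3]
    · rintro ⟨-, h⟩ ⟨a, haF⟩ ha
      rw [hR] at ha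
      obtain ⟨s, hs, hα⟩ := (H802.mem_autInducedBy_iff S Q a).1 ha
      apply Subtype.ext
      apply Subtype.ext
      have h1 := Subgroup.mem_centralizer_iff.1 h s hs
      show ((a (v : Q) : Q) : Ω) = _
      rw [hα, h1, mul_inv_cancel_right]
  have hfixA : ∀ v : Subgroup.center Q, ((v : Q) : Ω) ∈ S ⊓ Subgroup.centralizer (S : Set Ω) →
      (∀ a, ρ a v = v) → ((v : Q) : Ω) ∈ F.center := by
    intro v hv h
    refine hcenter _ hv ?_
    intro f hf hfQ hxQ
    obtain ⟨α, hα, hfα⟩ := hf.exists_aut hfQ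
    rw [hfα _ hxQ]
    exact congrArg (fun w : Subgroup.center Q => ((w : Q) : Ω)) (h ⟨α, hα⟩)
  have hfixA' : ∀ v : Subgroup.center Q, ((v : Q) : Ω) ∈ F.center → ∀ a, ρ a v = v := by
    rintro v hv ⟨a, ha⟩
    apply Subtype.ext
    apply Subtype.ext
    exact H792.apply_center ((H802.mem_autGroup_iff F hQS a).1 ha) hv (v : Q).2
      ((H792.center_le_center F).trans hZ)
  -- elements of `Z(S)` as elements of `Z(Q)`
  have hlift : ∀ x ∈ S ⊓ Subgroup.centralizer (S : Set Ω), ∃ v : Subgroup.center Q,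
      ((v : Q) : Ω) = x := by
    intro x hx
    refine ⟨⟨⟨x, hZ hx⟩, ?_⟩, rfl⟩
    rw [Subgroup.mem_center_iff]
    intro g
    apply Subtype.ext
    exact Subgroup.mem_centralizer_iff.1 hx.2 g (hQS g.2)
  refine ⟨(K.map (Subgroup.center Q).subtype).map Q.subtype, ?_, ?_, ?_⟩
  · rintro _ ⟨_, ⟨v, hv, rfl⟩, rfl⟩
    exact (hfixR v).1 (hK1 v hv)
  · rw [eq_bot_iff]
    rintro _ ⟨hx, ⟨_, ⟨v, hv, rfl⟩, rfl⟩⟩
    have h1 := hK2 v hv (hfixA' v hx)
    rw [h1]
    exact Subgroup.mem_bot.2 rfl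
  · apply le_antisymm
    · refine sup_le (H792.center_le_center F) ?_
      rintro _ ⟨_, ⟨v, hv, rfl⟩, rfl⟩
      exact (hfixR v).1 (hK1 v hv)
    · intro x hx
      obtain ⟨v, rfl⟩ := hlift x hx
      obtain ⟨y, k, hy, hk, hyk⟩ := hK3 v ((hfixR v).2 hx)
      rw [hyk]
      exact Subgroup.mul_mem_sup (hfixA y ((hfixR y).1 fun a _ => hy a) hy) ⟨_, ⟨k, hk, rfl⟩, rfl⟩

/-- **For odd `p` the centre of a saturated fusion system is a direct factor of `Z(S)`.** -/
theorem center_splits_odd {p : ℕ} [Fact p.Prime] (hp : p ≠ 2) [Finite S] (hS : IsPGroup p S)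
    (hF : F.IsSaturated p) :
    ∃ K : Subgroup Ω, K ≤ S ⊓ Subgroup.centralizer (S : Set Ω) ∧ F.center ⊓ K = ⊥ ∧
      F.center ⊔ K = S ⊓ Subgroup.centralizer (S : Set Ω) :=
  center_splits_of_thompson hS hF fun x hx hJ => (mem_center_iff_odd hp hS hF x).2 ⟨hx, hJ⟩

end Cfsg.Agent.H793
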